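import Groth.Agent.SmUnbLib.Push
import Groth.Agent.EtModUnbLib.Bc
import Groth.Agent.EtSmAcycLib.Apps
import Groth.Agent.EtULABCLib.Main
import Groth.Agent.EtProperH0Lib.StrictMain

/-!
# Smooth base change for unbounded complexes of modules
-/

set_option autoImplicit false
set_option linter.all false
set_option backward.isDefEq.respectTransparency false
set_option backward.isDefEq.respectTransparency.types false
set_option synthInstance.maxHeartbeats 400000
set_option maxHeartbeats 2000000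

universe u

open CategoryTheory CategoryTheory.Limits AlgebraicGeometry Opposite
open Groth.Agent Groth.Agent.EtShLib EtModUnbLib

attribute [local instance] HasDerivedCategory.standard
attribute [local instance] EtSliceLib.pullExact

noncomputable section

namespace SmUnbLib

variable (Λ : Type (u + 1)) [CommRing Λ] {X S X' S' : Scheme.{u}} (f : X ⟶ S) (g : S' ⟶ S) (f' : X' ⟶ S') (g' : X' ⟶ X)
  [QuasiCompact f] [QuasiSeparated f] [Smooth g]

theorem torsionInv {n : ℕ} (hΛ : (n : Λ) = 0) (hS : IsUnit (n : Γ(S, ⊤))) (M : EtModW.Mod Λ X) :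
    EtPBC.IsTorsionInvertibleOn S ((EtModD.forgetToAb Λ X).obj M) := by
  intro U s x
  refine ⟨U, 𝟙 U, n, ⟨x, rfl⟩, hS, ?_⟩
  rw [op_id, CategoryTheory.Functor.map_id]
  have h1 := congrArg (fun φ : (EtModD.forgetToAb Λ X).obj M ⟶ (EtModD.forgetToAb Λ X).obj M => φ.hom.app (op U) s)
    (nsmul_id_forget hΛ M)
  exact h1

theorem isIso_kappa (hc : IsPullback g' f' f g) (I : CochainComplex (EtModW.Mod Λ X) ℤ) :
    IsIso (BcPlusLib.kappa (EtSix.pullPushModAdj Λ g) (EtSix.pushToPushPullMod Λ f g f' g' hc.w) I) := by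
  haveI := EtModPBCLib.forget_reflectsIso Λ S'
  haveI : ∀ m, IsIso ((BcPlusLib.kappa (EtSix.pullPushModAdj Λ g) (EtSix.pushToPushPullMod Λ f g f' g' hc.w) I).f m) := by
    intro m
    haveI : GeometricallyReduced g := AbSchLib.geometricallyReduced_of_smooth g
    haveI : IsIso (EtCoh.baseChange0 f g f' g' hc.w ((EtModD.forgetToAb Λ X).obj (I.X m))) :=
      EtProperH0Lib.isIso_baseChange0_of_strict hc _ fun _ _ gB _ gB' _ κ he P hP =>
        EtProperH0Lib.strictBij_of_shConnected hP g (fun x RS _ _ _ _ _ RX _ _ _ _ _ ψ _ hψ Ω _ _ η =>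
          EtProperH0Lib.connected_sh_fibre g (Or.inr inferInstance) x RS RX ψ hψ Ω η) gB gB' κ he
    haveI := EtModPBCLib.isIso_alpha Λ g' (I.X m)
    haveI := EtModPBCLib.isIso_alpha Λ g ((EtModW.push Λ f).obj (I.X m))
    haveI : IsIso (EtModPBCLib.alpha Λ g ((EtModW.push Λ f).obj (I.X m)) ≫ (EtModD.forgetToAb Λ S').map
        (((EtSix.pullPushModAdj Λ g).homEquiv _ _).symm ((EtSix.pushToPushPullMod Λ f g f' g' hc.w).app (I.X m)))) :=
      EtModPBCLib.alpha_baseChange0 Λ f g f' g' hc.w (I.X m) ▸ inferInstance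
    haveI : IsIso ((EtModD.forgetToAb Λ S').map
        (((EtSix.pullPushModAdj Λ g).homEquiv _ _).symm ((EtSix.pushToPushPullMod Λ f g f' g' hc.w).app (I.X m)))) :=
      IsIso.of_isIso_comp_left (EtModPBCLib.alpha Λ g ((EtModW.push Λ f).obj (I.X m))) _
    haveI : IsIso ((EtModD.forgetToAb Λ S').map
        ((BcPlusLib.kappa (EtSix.pullPushModAdj Λ g) (EtSix.pushToPushPullMod Λ f g f' g' hc.w) I).f m)) :=
      ‹IsIso ((EtModD.forgetToAb Λ S').map (((EtSix.pullPushModAdj Λ g).homEquiv _ _).symm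
        ((EtSix.pushToPushPullMod Λ f g f' g' hc.w).app (I.X m))))›
    exact isIso_of_reflects_iso _ (EtModD.forgetToAb Λ S')
  exact HomologicalComplex.Hom.isIso_of_components _

theorem acy_pull (hc : IsPullback g' f' f g) {n : ℕ} (hΛ : (n : Λ) = 0) (hS : IsUnit (n : Γ(S, ⊤)))
    (M : EtModW.Mod Λ X) (hM : acy Λ f M) : acy Λ f' ((EtModW.pull Λ g').obj M) := by
  intro q hq
  let F := (EtModD.forgetToAb Λ X).obj M
  haveI := EtULABCLib.isIso_bcQ_of_uloc f g f' g' hc (EtSmAcycLib.isULocAcyclicN_of_smooth g q) F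
    (EtSmAcycLib.isLTorsion_of_isTorsionInvertibleOn g f (torsionInv Λ hΛ hS M)) q le_rfl
  haveI := EtModPBCLib.isIso_alpha Λ g' M
  exact (((EtCoh.pull g).map_isZero (hM q hq)).of_iso (asIso (EtBC.bcQ f g f' g' hc.w q F)).symm).of_iso
    ((EtCoh.Rpush f' q).mapIso (asIso (EtModPBCLib.alpha Λ g' M))).symm

variable [PreservesFiniteLimits (EtModW.pull Λ g)] [PreservesFiniteLimits (EtModW.pull Λ g')]
  [EtBC.HasRpushMod Λ f] [EtBC.HasRpushMod Λ f'] [EtBC.HasRpushMod Λ g]
  [PreservesColimitsOfShape (Discrete (ULift.{u + 1} ℕ)) (EtBC.RpushModD Λ f')]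

theorem isIso_bcMapModD (hc : IsPullback g' f' f g) {n : ℕ} (hΛ : (n : Λ) = 0) (hS : IsUnit (n : Γ(S, ⊤)))
    (adj : EtBC.pullModD Λ g ⊣ EtBC.RpushModD Λ g) (K : EtModD.D Λ X) :
    IsIso (EtBC.bcMapModD Λ f g f' g' hc.w adj K) := by
  haveI : QuasiCompact f' := MorphismProperty.of_isPullback hc ‹QuasiCompact f›
  haveI : QuasiSeparated f' := MorphismProperty.of_isPullback hc ‹QuasiSeparated f›
  obtain ⟨e, he⟩ := BcPlusLib.exists_symm_eq adj (canAdjM Λ g) ((EtBC.RpushModD Λ f).obj K)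
  suffices IsIso (EtBC.bcMapModD Λ f g f' g' hc.w (canAdjM Λ g) K) by
    dsimp only [EtBC.bcMapModD] at this ⊢
    rw [he]
    infer_instance
  obtain ⟨I, j, hI, hj, hIi⟩ := Groth.Agent.DerLib.KInjRes.exists_resolution (DerivedCategory.Q.objPreimage K)
  haveI := hI
  haveI : QuasiIso j := (HomologicalComplex.mem_quasiIso_iff _).1 hj.2
  let qI := (HomotopyCategory.quotient (EtModW.Mod Λ X) (ComplexShape.up ℤ)).obj I
  let a : DerivedCategory.Qh.obj qI ≅ K := (DerivedCategory.quotientCompQhIso (EtModW.Mod Λ X)).app I ≪≫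
    (asIso (DerivedCategory.Q.map j)).symm ≪≫ DerivedCategory.Q.objObjPreimageIso K
  suffices IsIso (EtBC.bcMapModD Λ f g f' g' hc.w (canAdjM Λ g) (DerivedCategory.Qh.obj qI)) from
    ((MorphismProperty.isomorphisms _).arrow_mk_iso_iff (Arrow.isoMk
      ((EtBC.pullModD Λ g).mapIso ((EtBC.RpushModD Λ f).mapIso a))
      ((EtBC.RpushModD Λ f').mapIso ((EtBC.pullModD Λ g').mapIso a))
      (by
        show _ ≫ ((canAdjM Λ g).homEquiv _ _).symm _ = ((canAdjM Λ g).homEquiv _ _).symm _ ≫ _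
        refine ((canAdjM Λ g).homEquiv_naturality_left_symm _ _).symm.trans
          (Eq.trans ?_ ((canAdjM Λ g).homEquiv_naturality_right_symm _ _))
        exact congrArg _ ((EtBC.bcAdjModD Λ f g f' g' hc.w).naturality a.hom)))).1 this
  haveI : IsIso ((uM Λ f).app qI) :=
    Groth.Agent.DerLib.KInjDerived.isIso_app (EtBC.RpushModD Λ f) (uM Λ f) (enoughM Λ X) I
  haveI : IsIso ((uM Λ f').app (((EtModW.pull Λ g').mapHomotopyCategory (ComplexShape.up ℤ)).obj qI)) :=
    EtModUnbLib.isIso_unit (EtBC.RpushModD Λ f') (uM Λ f') (exacts_push_of_sums Λ f') (acy_biprod f') (acy_iso f') (acy_injective f')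
      (((EtModW.pull Λ g').mapHomologicalComplex (ComplexShape.up ℤ)).obj I)
      fun i => acy_pull Λ f g f' g' hc hΛ hS (I.X i) (acy_injective f (I.X i) (hIi i))
  haveI := isIso_kappa Λ f g f' g' hc I
  haveI : IsIso (kap Λ f g f' g' hc.w I) := ‹_›
  have h := unit_bcMapModD Λ f g f' g' hc.w I
  haveI : IsIso ((EtBC.pullModD Λ g).map ((uM Λ f).app qI) ≫
      EtBC.bcMapModD Λ f g f' g' hc.w (canAdjM Λ g) (DerivedCategory.Qh.obj qI)) := h ▸ inferInstance
  exact IsIso.of_isIso_comp_left ((EtBC.pullModD Λ g).map ((uM Λ f).app qI)) _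

end SmUnbLib

end
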