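import Groth.Agent.SmUnbLib.Bc
import Groth.Agent.EtSmAcycLib.AffSpace

/-!
# Inverse image to the affine line on unbounded derived categories of modules
-/

set_option autoImplicit false
set_option linter.all false
set_option backward.isDefEq.respectTransparency false
set_option backward.isDefEq.respectTransparency.types false
set_option synthInstance.maxHeartbeats 400000
set_option maxHeartbeats 2000000

universe u

open CategoryTheory CategoryTheory.Limits AlgebraicGeometry Opposite
open Groth.Agent Groth.Agent.EtShLib EtModUnbLib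

attribute [local instance] HasDerivedCategory.standard
attribute [local instance] EtSliceLib.pullExact

noncomputable section

namespace SmUnbLib

variable (Λ : Type (u + 1)) [CommRing Λ] (S : Scheme.{u})

theorem aff_acyclic {n : ℕ} (hn0 : 0 < n) (hΛ : (n : Λ) = 0) (hn : IsUnit (n : Γ(S, ⊤))) (M : EtModW.Mod Λ S) :
    IsIso ((EtSix.pullPushModAdj Λ (𝔸(PUnit.{u + 1}; S) ↘ S)).unit.app M) ∧
      acy Λ (𝔸(PUnit.{u + 1}; S) ↘ S) ((EtModW.pull Λ (𝔸(PUnit.{u + 1}; S) ↘ S)).obj M) := by
  let g := 𝔸(PUnit.{u + 1}; S) ↘ S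
  let F := (EtModD.forgetToAb Λ S).obj M
  have hkill : ∀ (U : S.Etale) (s : EtCoh.sect F U), n • s = 0 := fun U s =>
    congrArg (fun φ : F ⟶ F => φ.hom.app (op U) s) (nsmul_id_forget hΛ M)
  rcases Nat.lt_or_ge 1 n with hn1 | hn1
  · have hL : LocAcycPointLib.primesOf n ⊆ EtAcyc.primesInvertibleOn S := fun p hp =>
      (EtSmAcycLib.primesIn_invertible (𝟙 S) hn hn0).2 p hp.1 hp.2
    have hne := LocAcycPointLib.exists_prime hn1
    have hF' : EtAcyc.IsLTorsion (LocAcycPointLib.primesOf n) F := fun U s x =>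
      ⟨U, 𝟙 U, n, ⟨x, rfl⟩, LocAcycPointLib.primesIn_self hn0, hkill U _⟩
    have hacyc := fun k => EtSmAcycLib.isAcyclicN_affineSpace S PUnit.{u + 1} _ hL hne k
    haveI := EtModPBCLib.isIso_alpha Λ g M
    haveI := EtModPBCLib.forget_reflectsIso Λ S
    refine ⟨?_, fun q hq => ?_⟩
    · haveI := (LocAcycPointLib.unit_iso_and_Rpush_vanish g (hacyc 0) hF').1
      haveI : IsIso ((EtModD.forgetToAb Λ S).map ((EtSix.pullPushModAdj Λ g).unit.app M)) :=
        EtModPBCLib.unit_alpha Λ g M ▸ inferInstance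
      exact isIso_of_reflects_iso _ (EtModD.forgetToAb Λ S)
    · exact ((LocAcycPointLib.unit_iso_and_Rpush_vanish g (hacyc q) hF').2 q hq le_rfl).of_iso
        ((EtCoh.Rpush g q).mapIso (asIso (EtModPBCLib.alpha Λ g M))).symm
  · obtain rfl : n = 1 := by omega
    haveI : Subsingleton Λ := subsingleton_of_zero_eq_one (by simpa using hΛ.symm)
    have hz : ∀ (Z : Scheme.{u}) (N : EtModW.Mod Λ Z), IsZero N := fun Z N => by
      rw [IsZero.iff_id_eq_zero]
      refine Sheaf.hom_ext (NatTrans.ext (funext fun U => ?_))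
      ext s
      show s = 0
      rw [← one_smul Λ s, Subsingleton.elim (1 : Λ) 0, zero_smul]
    exact ⟨⟨0, (hz _ M).eq_of_src _ _, (hz _ _).eq_of_src _ _⟩, acy_injective g _ (hz _ _).injective⟩

variable [PreservesFiniteLimits (EtModW.pull Λ (𝔸(PUnit.{u + 1}; S) ↘ S))]
  [EtBC.HasRpushMod Λ (𝔸(PUnit.{u + 1}; S) ↘ S)]
  [PreservesColimitsOfShape (Discrete (ULift.{u + 1} ℕ)) (EtBC.RpushModD Λ (𝔸(PUnit.{u + 1}; S) ↘ S))]

theorem isIso_unit_aff {n : ℕ} (hn0 : 0 < n) (hΛ : (n : Λ) = 0) (hn : IsUnit (n : Γ(S, ⊤))) :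
    IsIso (canAdjM Λ (𝔸(PUnit.{u + 1}; S) ↘ S)).unit := by
  let p := 𝔸(PUnit.{u + 1}; S) ↘ S
  let up := ComplexShape.up ℤ
  haveI : QuasiCompact p := inferInstance
  haveI : QuasiSeparated p := inferInstance
  rw [NatTrans.isIso_iff_isIso_app]
  intro X
  let K := DerivedCategory.Q.objPreimage X
  let e : DerivedCategory.Qh.obj ((HomotopyCategory.quotient _ up).obj K) ≅ X :=
    (DerivedCategory.quotientCompQhIso _).app K ≪≫ DerivedCategory.Q.objObjPreimageIso X
  rw [← NatTrans.isIso_app_iff_of_iso _ e]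
  let G := EtModW.pull Λ p
  let A := Groth.Agent.DerLib.KInjDerived.mapHomotopyCategoryAdj (EtSix.pullPushModAdj Λ p) up
  haveI : ∀ i, IsIso (((Groth.Agent.DerLib.KInjDerived.mapHomologicalComplexAdj (EtSix.pullPushModAdj Λ p) up).unit.app K).f i) :=
    fun i => (aff_acyclic Λ S hn0 hΛ hn (K.X i)).1
  haveI : IsIso ((Groth.Agent.DerLib.KInjDerived.mapHomologicalComplexAdj (EtSix.pullPushModAdj Λ p) up).unit.app K) :=
    HomologicalComplex.Hom.isIso_of_components _
  haveI : IsIso (A.unit.app ((HomotopyCategory.quotient _ up).obj K)) :=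
    inferInstanceAs (IsIso ((HomotopyCategory.quotient _ up).map
      ((Groth.Agent.DerLib.KInjDerived.mapHomologicalComplexAdj (EtSix.pullPushModAdj Λ p) up).unit.app K)))
  haveI : IsIso ((uM Λ p).app ((G.mapHomotopyCategory up).obj ((HomotopyCategory.quotient _ up).obj K))) :=
    EtModUnbLib.isIso_unit (EtBC.RpushModD Λ p) (uM Λ p) (exacts_push_of_sums Λ p) (acy_biprod p) (acy_iso p)
      (acy_injective p) ((G.mapHomologicalComplex up).obj K) fun i => (aff_acyclic Λ S hn0 hΛ hn (K.X i)).2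
  haveI : G.mapDerivedCategory.IsLeftDerivedFunctor G.mapDerivedCategoryFactorsh.hom
      (HomotopyCategory.quasiIso (EtModW.Mod Λ S) up) :=
    Functor.isLeftDerivedFunctor_of_inverts _ G.mapDerivedCategory G.mapDerivedCategoryFactorsh
  haveI : (G.mapDerivedCategory ⋙ EtBC.RpushModD Λ p).IsLeftDerivedFunctor
      ((Functor.associator _ _ _).inv ≫ Functor.whiskerRight G.mapDerivedCategoryFactorsh.hom (EtBC.RpushModD Λ p))
      (HomotopyCategory.quasiIso (EtModW.Mod Λ S) up) :=
    Functor.isLeftDerivedFunctor_of_inverts _ _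
      ((Functor.associator _ _ _).symm ≪≫ Functor.isoWhiskerRight G.mapDerivedCategoryFactorsh (EtBC.RpushModD Λ p))
  have key := A.derivedη_fac_app (HomotopyCategory.quasiIso (EtModW.Mod Λ S) up)
    G.mapDerivedCategoryFactorsh.hom (uM Λ p) ((HomotopyCategory.quotient _ up).obj K)
  exact IsIso.of_isIso_fac_right key

end SmUnbLib

end
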