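import Groth.Agent.SmUnbLib.Trunc
import Groth.Agent.EtModUnbLib.Coprod

/-!
# Exactness on acyclic objects from preservation of sums
-/

set_option autoImplicit false
set_option linter.all false
set_option backward.isDefEq.respectTransparency false
set_option backward.isDefEq.respectTransparency.types false
set_option maxHeartbeats 1000000

open CategoryTheory CategoryTheory.Limits
open Groth.Agent

noncomputable section

namespace SmUnbLib

universe v₁ v₂ u₁ u₂ w₁ w₂

variable {A : Type u₁} [Category.{v₁} A] [Abelian A] [IsGrothendieckAbelian.{v₁} A] [HasDerivedCategory.{w₁} A]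
  {B : Type u₂} [Category.{v₁} B] [Abelian B] [IsGrothendieckAbelian.{v₁} B] [HasDerivedCategory.{w₂} B]
  {F : A ⥤ B} [F.Additive] {P : ObjectProperty A}
  (RF : DerivedCategory A ⥤ DerivedCategory B)
  (α : F.mapHomotopyCategory (ComplexShape.up ℤ) ⋙ DerivedCategory.Qh ⟶ DerivedCategory.Qh ⋙ RF)

/-- The unit, before passing to the homotopy category. -/
def unitQ : F.mapHomologicalComplex (ComplexShape.up ℤ) ⋙ DerivedCategory.Q ⟶ DerivedCategory.Q ⋙ RF :=
  Functor.whiskerLeft (F.mapHomologicalComplex (ComplexShape.up ℤ)) (DerivedCategory.quotientCompQhIso B).inv ≫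
    Functor.whiskerLeft (HomotopyCategory.quotient A (ComplexShape.up ℤ)) α ≫
      Functor.whiskerRight (DerivedCategory.quotientCompQhIso A).hom RF

theorem isIso_unitQ (K : CochainComplex A ℤ)
    [IsIso (α.app ((HomotopyCategory.quotient A (ComplexShape.up ℤ)).obj K))] : IsIso ((unitQ RF α).app K) := by
  simp only [unitQ, NatTrans.comp_app, Functor.whiskerLeft_app, Functor.whiskerRight_app]
  infer_instance

theorem exacts_of_sums [PreservesColimitsOfShape (Discrete (ULift.{v₁} ℕ)) F]
    [PreservesColimitsOfShape (Discrete (ULift.{v₁} ℕ)) RF]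
    (hiso : ∀ X Y, (X ≅ Y) → P X → P Y) (h0 : ∀ X, IsZero X → P X)
    (hU : ∀ (K : CochainComplex A ℤ) (a : ℤ), K.IsStrictlyGE a → (∀ i, P (K.X i)) →
      IsIso (α.app ((HomotopyCategory.quotient A (ComplexShape.up ℤ)).obj K))) :
    EtModUnbLib.Exacts F P := by
  intro K hK hP
  let up := ComplexShape.up ℤ
  let Φ := F.mapHomologicalComplex up
  haveI hη : ∀ m, IsIso ((unitQ RF α).app (piece K m)) := fun m =>
    haveI := hU (piece K m) _ (isStrictlyGE_below K _) (below_prop K P hiso h0 _ hP)
    isIso_unitQ RF α _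
  let c : Cofan (piece K) := Cofan.mk (tot K) (Sigma.ι (piece K))
  have hc : IsColimit c := coproductIsCoproduct (piece K)
  obtain ⟨hQ⟩ := EtModUnbLib.nonempty_isColimit_Q (piece K) hc
  have hPc : IsColimit (Cofan.mk (Φ.obj c.pt) fun i => Φ.map (c.inj i)) := by
    refine HomologicalComplex.isColimitOfEval _ _ fun m => ?_
    exact (isColimitMapCoconeCofanMkEquiv (HomologicalComplex.eval B up m) _ _).symm
      (isColimitMapCoconeCofanMkEquiv (HomologicalComplex.eval A up m ⋙ F) (piece K) (Sigma.ι (piece K))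
        (isColimitOfPreserves (HomologicalComplex.eval A up m ⋙ F) hc))
  obtain ⟨hQP⟩ := EtModUnbLib.nonempty_isColimit_Q (fun i => Φ.obj (piece K i)) hPc
  have hR := isColimitMapCoconeCofanMkEquiv RF _ _ (isColimitOfPreserves RF hQ)
  let e : (Discrete.functor fun i => DerivedCategory.Q.obj (Φ.obj (piece K i))) ≅
      Discrete.functor fun i => RF.obj (DerivedCategory.Q.obj (piece K i)) :=
    Discrete.natIso fun j => (asIso ((unitQ RF α).app (piece K j.as)) :
      DerivedCategory.Q.obj (Φ.obj (piece K j.as)) ≅ RF.obj (DerivedCategory.Q.obj (piece K j.as)))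
  have hR' := (IsColimit.precomposeHomEquiv e _).symm hR
  haveI hT : IsIso ((unitQ RF α).app (tot K)) := by
    let i := hQP.coconePointUniqueUpToIso hR'
    have he : (unitQ RF α).app (tot K) = i.hom := by
      refine hQP.hom_ext fun j => ?_
      rw [hQP.comp_coconePointUniqueUpToIso_hom hR' j]
      exact (unitQ RF α).naturality (Sigma.ι (piece K) j.as)
    rw [he]
    infer_instance
  have hS : (seq K).ShortExact :=
    HomologicalComplex.shortExact_of_degreewise_shortExact _ fun i => (nonempty_splitting K i).some.shortExact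
  haveI hsh : QuasiIso (sh K) := quasiIso_of_acyclic₃ hS hK
  haveI : IsIso (DerivedCategory.Q.map (sh K)) := inferInstance
  haveI : IsIso (DerivedCategory.Q.map (Φ.map (sh K))) := by
    have h := (unitQ RF α).naturality (sh K)
    haveI : IsIso ((DerivedCategory.Q ⋙ RF).map (sh K)) := inferInstanceAs (IsIso (RF.map (DerivedCategory.Q.map (sh K))))
    haveI : IsIso ((Φ ⋙ DerivedCategory.Q).map (sh K) ≫ (unitQ RF α).app (tot K)) := h ▸ inferInstance
    haveI : IsIso (DerivedCategory.Q.map (Φ.map (sh K)) ≫ (unitQ RF α).app (tot K)) :=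
      ‹IsIso ((Φ ⋙ DerivedCategory.Q).map (sh K) ≫ (unitQ RF α).app (tot K))›
    exact IsIso.of_isIso_comp_right _ ((unitQ RF α).app (tot K))
  have hq : QuasiIso (Φ.map (sh K)) := (DerivedCategory.isIso_Q_map_iff_quasiIso B _).1 ‹_›
  have hS' : ((seq K).map Φ).ShortExact :=
    HomologicalComplex.shortExact_of_degreewise_shortExact _ fun i => ((nonempty_splitting K i).some.map F).shortExact
  exact acyclic₃_of_quasiIso hS' hq

end SmUnbLib

end
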