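import Groth.Agent.SmUnbLib.Gen
import Groth.Agent.EtDlUnbLib.Cd

/-!
# Direct images of modules, when the derived direct image preserves sums
-/

set_option autoImplicit false
set_option linter.all false
set_option backward.isDefEq.respectTransparency false
set_option backward.isDefEq.respectTransparency.types false
set_option synthInstance.maxHeartbeats 400000
set_option maxHeartbeats 2000000

universe u

open CategoryTheory CategoryTheory.Limits AlgebraicGeometry Opposite
open Groth.Agent Groth.Agent.EtShLib EtModUnbLib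

attribute [local instance] HasDerivedCategory.standard

noncomputable section

namespace SmUnbLib

variable (Λ : Type (u + 1)) [CommRing Λ] {X S : Scheme.{u}} (f : X ⟶ S)

theorem acy_zero (M : EtModW.Mod Λ X) (hM : IsZero M) : acy Λ f M :=
  acy_injective f M hM.injective

theorem exactAt_push_bddBelow (K : CochainComplex (EtModW.Mod Λ X) ℤ) (a : ℤ) [K.IsStrictlyGE a]
    (hK : K.Acyclic) (hA : ∀ i, acy Λ f (K.X i)) :
    (((EtModW.push Λ f).mapHomologicalComplex (ComplexShape.up ℤ)).obj K).Acyclic := by
  intro n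
  by_cases hn : a - 1 < n
  · refine EtDlUnbLib.exactAt_pushMod (N := 0) (l := a - 1) (fun i _ => hK i) hA (fun q hq => ?_) n (by omega)
    haveI := EtModUnbLib.forget_additive Λ X
    haveI : (EtCoh.push f).Additive := { }
    have hz : IsZero (K.cycles (a - 1)) :=
      IsZero.of_mono (K.iCycles (a - 1)) (K.isZero_of_isStrictlyGE a (a - 1) (by omega))
    exact (EtCoh.Rpush f q).map_isZero ((EtModD.forgetToAb Λ X).map_isZero hz)
  · rw [HomologicalComplex.exactAt_iff]
    exact ShortComplex.exact_of_isZero_X₂ _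
      ((EtModW.push Λ f).map_isZero (K.isZero_of_isStrictlyGE a n (by omega)))

variable [EtBC.HasRpushMod Λ f]

/-- The unit of the derived direct image. -/
abbrev uP : EtBC.pushModKh Λ f ⟶ DerivedCategory.Qh ⋙ EtBC.RpushModD Λ f :=
  (EtBC.pushModKh Λ f).totalRightDerivedUnit DerivedCategory.Qh
    (HomotopyCategory.quasiIso (EtModW.Mod Λ X) (ComplexShape.up ℤ))

theorem isIso_unit_bddBelow (K : CochainComplex (EtModW.Mod Λ X) ℤ) (a : ℤ) [K.IsStrictlyGE a]
    (hA : ∀ i, acy Λ f (K.X i)) :
    IsIso ((uP Λ f).app ((HomotopyCategory.quotient _ (ComplexShape.up ℤ)).obj K)) := by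
  let up := ComplexShape.up ℤ
  let F := EtModW.push Λ f
  obtain ⟨I, j, hI, hinj, -, hj⟩ := DerLib.Horseshoe.exists_injective_resolution K a
  haveI := hI
  haveI := hj
  haveI : I.IsKInjective := CochainComplex.isKInjective_of_injective I a
  let C := CochainComplex.mappingCone j
  have hc : C.Acyclic := (quasiIso_iff_acyclic_cone j).1 hj
  haveI : C.IsStrictlyGE (a - 1) := by
    rw [CochainComplex.isStrictlyGE_iff]
    intro i hi
    refine IsZero.of_iso ?_ (HomologicalComplex.homotopyCofiber.XIsoBiprod j i (i + 1) rfl)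
    exact (biprod_isZero_iff _ _).2 ⟨K.isZero_of_isStrictlyGE a (i + 1) (by omega), I.isZero_of_isStrictlyGE a i (by omega)⟩
  have hterms : ∀ i, acy Λ f (C.X i) := fun i =>
    acy_iso f _ _ (HomologicalComplex.homotopyCofiber.XIsoBiprod j i (i + 1) rfl).symm
      (acy_biprod f _ _ (hA _) (acy_injective f _ (hinj i)))
  have hFj : QuasiIso ((F.mapHomologicalComplex up).map j) := (quasiIso_iff_acyclic_cone _).2 fun n =>
    HomologicalComplex.ExactAt.of_iso (exactAt_push_bddBelow Λ f C (a - 1) hc hterms n)
      (CochainComplex.mappingCone.mapHomologicalComplexIso j F)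
  let RF := EtBC.RpushModD Λ f
  let α := uP Λ f
  haveI : IsIso (α.app ((HomotopyCategory.quotient _ up).obj I)) :=
    DerLib.KInjDerived.isIso_app RF α (DerLib.KInjDerived.enoughKInj _) I
  let q := (HomotopyCategory.quotient (EtModW.Mod Λ X) up).map j
  haveI : IsIso (DerivedCategory.Qh.map q) :=
    Localization.inverts DerivedCategory.Qh (HomotopyCategory.quasiIso (EtModW.Mod Λ X) up) _
      ((HomotopyCategory.quotient_map_mem_quasiIso_iff j).2 ((HomologicalComplex.mem_quasiIso_iff _).2 hj))
  haveI : IsIso ((F.mapHomotopyCategory up ⋙ DerivedCategory.Qh).map q) :=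
    Localization.inverts DerivedCategory.Qh (HomotopyCategory.quasiIso (EtModW.Mod Λ S) up) _
      ((HomotopyCategory.quotient_map_mem_quasiIso_iff _).2 ((HomologicalComplex.mem_quasiIso_iff _).2 hFj))
  haveI : IsIso ((EtBC.pushModKh Λ f).map q) := ‹IsIso ((F.mapHomotopyCategory up ⋙ DerivedCategory.Qh).map q)›
  have h := α.naturality q
  haveI : IsIso ((DerivedCategory.Qh ⋙ RF).map q) := inferInstanceAs (IsIso (RF.map (DerivedCategory.Qh.map q)))
  haveI : IsIso (α.app ((HomotopyCategory.quotient _ up).obj K) ≫ (DerivedCategory.Qh ⋙ RF).map q) := h ▸ inferInstance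
  exact IsIso.of_isIso_comp_right _ ((DerivedCategory.Qh ⋙ RF).map q)

theorem exacts_push_of_sums [QuasiCompact f] [QuasiSeparated f]
    [PreservesColimitsOfShape (Discrete (ULift.{u + 1} ℕ)) (EtBC.RpushModD Λ f)] :
    Exacts (EtModW.push Λ f) (acy Λ f) := by
  haveI := EtModUnbLib.pushMod_sums Λ f (ULift.{u + 1} ℕ)
  exact exacts_of_sums (EtBC.RpushModD Λ f) (uP Λ f) (acy_iso f) (acy_zero Λ f)
    fun K a hKa hK => haveI := hKa; isIso_unit_bddBelow Λ f K a hK

end SmUnbLib

end
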