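import Groth.Agent.EtModUnbLib.Gen
import Mathlib.Algebra.Homology.HomologySequence
import Mathlib.Algebra.Homology.HomologicalComplexLimits
import Mathlib.Algebra.Homology.Embedding.CochainComplex
import Mathlib.Algebra.BigOperators.Intervals

/-!
# A complex as a sequential colimit of bounded below subcomplexes
-/

set_option autoImplicit false
set_option linter.all false
set_option backward.isDefEq.respectTransparency false
set_option backward.isDefEq.respectTransparency.types false
set_option maxHeartbeats 1000000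

open CategoryTheory CategoryTheory.Limits

noncomputable section

namespace SmUnbLib

universe w v₁ u₁

variable {A : Type u₁} [Category.{v₁} A] [Abelian A]

theorem quasiIso_of_acyclic₃ {S : ShortComplex (CochainComplex A ℤ)} (hS : S.ShortExact) (h : S.X₃.Acyclic) :
    QuasiIso S.f := by
  rw [quasiIso_iff]
  intro n
  rw [quasiIsoAt_iff_isIso_homologyMap]
  haveI : Mono (HomologicalComplex.homologyMap S.f n) :=
    (hS.homology_exact₁ (n - 1) n (by simp)).mono_g ((h (n - 1)).isZero_homology.eq_of_src _ _)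
  haveI : Epi (HomologicalComplex.homologyMap S.f n) :=
    (hS.homology_exact₂ n).epi_f ((h n).isZero_homology.eq_of_tgt _ _)
  exact isIso_of_mono_of_epi _

theorem acyclic₃_of_quasiIso {S : ShortComplex (CochainComplex A ℤ)} (hS : S.ShortExact) (h : QuasiIso S.f) :
    S.X₃.Acyclic := by
  intro n
  rw [HomologicalComplex.exactAt_iff_isZero_homology]
  refine (hS.homology_exact₃ n (n + 1) (by simp)).isZero_X₂ ?_ ?_
  · have h0 := (ShortComplex.mk _ _ (HomologicalComplex.homologyMap_comp S.f S.g n ▸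
      (by rw [S.zero, HomologicalComplex.homologyMap_zero] :
        HomologicalComplex.homologyMap (S.f ≫ S.g) n = 0))).zero
    haveI : IsIso (HomologicalComplex.homologyMap S.f n) := inferInstance
    exact (cancel_epi (HomologicalComplex.homologyMap S.f n)).1 (h0.trans comp_zero.symm)
  · have h0 := hS.δ_comp n (n + 1) (by simp)
    haveI : IsIso (HomologicalComplex.homologyMap S.f (n + 1)) := inferInstance
    exact (cancel_mono (HomologicalComplex.homologyMap S.f (n + 1))).1 (h0.trans zero_comp.symm)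

variable [HasColimitsOfSize.{v₁, v₁} A] (K : CochainComplex A ℤ)

/-- The subcomplex of `K` in degrees at least `a`. -/
def below (a : ℤ) : CochainComplex A ℤ where
  X i := ∐ fun _ : ULift.{v₁} (PLift (a ≤ i)) => K.X i
  d i j := Sigma.desc fun _ => if h : a ≤ j then K.d i j ≫ Sigma.ι (fun _ : ULift.{v₁} (PLift (a ≤ j)) => K.X j) ⟨⟨h⟩⟩ else 0
  shape i j hij := Sigma.hom_ext _ _ fun _ => by simp [K.shape i j hij]
  d_comp_d' i j k _ _ := Sigma.hom_ext _ _ fun _ => by
    rw [Sigma.ι_desc_assoc, comp_zero]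
    split_ifs <;> simp

/-- The inclusion of a summand. -/
abbrev bι (a i : ℤ) (h : a ≤ i) : K.X i ⟶ (below K a).X i :=
  Sigma.ι (fun _ : ULift.{v₁} (PLift (a ≤ i)) => K.X i) ⟨⟨h⟩⟩

@[reassoc]
theorem bι_d (a i j : ℤ) (h : a ≤ i) (h' : a ≤ j) : bι K a i h ≫ (below K a).d i j = K.d i j ≫ bι K a j h' := by
  exact (Sigma.ι_desc _ _).trans (dif_pos h')

theorem below_ext {a i : ℤ} {W : A} {f g : (below K a).X i ⟶ W} (h : ∀ hi : a ≤ i, bι K a i hi ≫ f = bι K a i hi ≫ g) :
    f = g :=
  Sigma.hom_ext _ _ fun ⟨⟨hi⟩⟩ => h hi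

instance isStrictlyGE_below (a : ℤ) : (below K a).IsStrictlyGE a := by
  rw [CochainComplex.isStrictlyGE_iff]
  intro i hi
  rw [IsZero.iff_id_eq_zero]
  exact below_ext K fun h => absurd h (by omega)

theorem below_prop (P : ObjectProperty A) (hiso : ∀ X Y, (X ≅ Y) → P X → P Y) (h0 : ∀ X, IsZero X → P X)
    (a : ℤ) (hK : ∀ i, P (K.X i)) (i : ℤ) : P ((below K a).X i) := by
  by_cases h : a ≤ i
  · refine hiso _ _ ⟨bι K a i h, Sigma.desc fun _ => 𝟙 (K.X i), by simp, ?_⟩ (hK i)
    exact below_ext K fun _ => by simp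
  · exact h0 _ (CochainComplex.isZero_of_isStrictlyGE _ a i (by omega))

/-- The inclusion into `K`. -/
def incl (a : ℤ) : below K a ⟶ K where
  f i := Sigma.desc fun _ => 𝟙 _
  comm' i j hij := by
    refine below_ext K fun h => ?_
    have h' : a ≤ j := by
      have : i + 1 = j := hij
      omega
    rw [bι_d_assoc K a i j h h']
    simp

/-- The transition maps. -/
def trans' (a b : ℤ) (hab : b ≤ a) : below K a ⟶ below K b where
  f i := Sigma.desc fun h => bι K b i (hab.trans h.down.down)
  comm' i j hij := by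
    refine below_ext K fun h => ?_
    have h' : a ≤ j := by
      have : i + 1 = j := hij
      omega
    rw [bι_d_assoc K a i j h h', Sigma.ι_desc_assoc, bι_d K b i j (hab.trans h) (hab.trans h'), Sigma.ι_desc]

/-- The bounded below pieces. -/
abbrev piece (m : ULift.{v₁} ℕ) : CochainComplex A ℤ := below K (-(m.down : ℤ))

/-- Their sum. -/
abbrev tot : CochainComplex A ℤ := ∐ (piece K)

def next (m : ULift.{v₁} ℕ) : ULift.{v₁} ℕ := ⟨m.down + 1⟩

/-- The difference of the identity and the shift. -/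
def sh : tot K ⟶ tot K :=
  Sigma.desc fun m => Sigma.ι (piece K) m -
    trans' K (-(m.down : ℤ)) (-((next m).down : ℤ)) (by simp [next]) ≫ Sigma.ι (piece K) (next m)

/-- The sum of the inclusions. -/
def proj : tot K ⟶ K := Sigma.desc fun m => incl K (-(m.down : ℤ))

theorem sh_proj : sh K ≫ proj K = 0 := by
  refine Sigma.hom_ext _ _ fun m => ?_
  rw [sh, Sigma.ι_desc_assoc, Preadditive.sub_comp, Category.assoc, proj, Sigma.ι_desc, Sigma.ι_desc, comp_zero, sub_eq_zero]
  refine HomologicalComplex.hom_ext _ _ fun i => below_ext K fun h => ?_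
  simp [incl, trans']

/-- The sequence with sum and shift. -/
abbrev seq : ShortComplex (CochainComplex A ℤ) := ShortComplex.mk (sh K) (proj K) (sh_proj K)

/-- An element of the summand `m` in degree `i`. -/
abbrev el (m : ℕ) (i : ℤ) (h : -(m : ℤ) ≤ i) : K.X i ⟶ (tot K).X i :=
  bι K (-(m : ℤ)) i h ≫ (Sigma.ι (piece K) ⟨m⟩).f i

theorem tot_ext {i : ℤ} {W : A} {f g : (tot K).X i ⟶ W}
    (h : ∀ (m : ℕ) (hm : -(m : ℤ) ≤ i), el K m i hm ≫ f = el K m i hm ≫ g) : f = g := by
  refine (isColimitOfPreserves (HomologicalComplex.eval A (ComplexShape.up ℤ) i)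
    (coproductIsCoproduct (piece K))).hom_ext fun ⟨⟨m⟩⟩ => ?_
  exact below_ext K fun hm => ((Category.assoc _ _ _).symm.trans (h m hm)).trans (Category.assoc _ _ _)

theorem exists_desc (i : ℤ) (W : A) (c : ∀ m : ℕ, -(m : ℤ) ≤ i → (K.X i ⟶ W)) :
    ∃ r : (tot K).X i ⟶ W, ∀ m hm, el K m i hm ≫ r = c m hm := by
  have hc := isColimitOfPreserves (HomologicalComplex.eval A (ComplexShape.up ℤ) i) (coproductIsCoproduct (piece K))
  let s : Cocone (Discrete.functor (piece K) ⋙ HomologicalComplex.eval A (ComplexShape.up ℤ) i) :=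
    { pt := W
      ι := Discrete.natTrans fun m => (Sigma.desc fun h => c m.as.down h.down.down :
        (below K (-(m.as.down : ℤ))).X i ⟶ W) }
  refine ⟨hc.desc s, fun m hm => ?_⟩
  rw [Category.assoc]
  erw [hc.fac s ⟨⟨m⟩⟩]
  exact Sigma.ι_desc _ _

theorem el_sh (m : ℕ) (i : ℤ) (h : -(m : ℤ) ≤ i) :
    el K m i h ≫ (sh K).f i = el K m i h - el K (m + 1) i (by omega) := by
  rw [Category.assoc, ← HomologicalComplex.comp_f, sh, Sigma.ι_desc, HomologicalComplex.sub_f_apply,
    Preadditive.comp_sub, HomologicalComplex.comp_f]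
  congr 1
  simp [trans', next]
  rfl

theorem el_proj (m : ℕ) (i : ℤ) (h : -(m : ℤ) ≤ i) : el K m i h ≫ (proj K).f i = 𝟙 _ := by
  rw [Category.assoc, ← HomologicalComplex.comp_f, proj, Sigma.ι_desc]
  simp [incl]

/-- The sequence splits in each degree. -/
theorem nonempty_splitting (i : ℤ) :
    Nonempty ((seq K).map (HomologicalComplex.eval A (ComplexShape.up ℤ) i)).Splitting := by
  let m0 := (-i).toNat
  have hm0 : -(m0 : ℤ) ≤ i := by omega
  obtain ⟨r, hr⟩ := exists_desc K i ((tot K).X i) fun m hm =>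
    -∑ k ∈ Finset.Ico m0 m, if hk : -(k : ℤ) ≤ i then el K k i hk else 0
  refine ⟨{ r := r, s := el K m0 i hm0, f_r := ?_, s_g := el_proj K m0 i hm0, id := ?_ }⟩
  · show (sh K).f i ≫ r = 𝟙 _
    refine tot_ext K fun m hm => ?_
    rw [← Category.assoc, el_sh, Preadditive.sub_comp, hr, hr, Category.comp_id,
      Finset.sum_Ico_succ_top (by omega : m0 ≤ m), dif_pos hm]
    abel
  · show r ≫ (sh K).f i + (proj K).f i ≫ el K m0 i hm0 = 𝟙 _
    refine tot_ext K fun m hm => ?_
    rw [Preadditive.comp_add, ← Category.assoc, hr, ← Category.assoc, el_proj, Category.id_comp, Category.comp_id,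
      Preadditive.neg_comp, Preadditive.sum_comp]
    have e : ∀ n, m0 ≤ n → ∑ k ∈ Finset.Ico m0 n, (if hk : -(k : ℤ) ≤ i then el K k i hk else 0) ≫ (sh K).f i =
        el K m0 i hm0 - if hn : -(n : ℤ) ≤ i then el K n i hn else 0 := by
      intro n hn
      induction n, hn using Nat.le_induction with
      | base => simp [hm0]
      | succ n hn ih =>
        rw [Finset.sum_Ico_succ_top hn, ih, dif_pos (show -(n : ℤ) ≤ i by omega), dif_pos (show -((n + 1 : ℕ) : ℤ) ≤ i by omega),
          el_sh]
        abel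
    rw [e m (by omega), dif_pos hm]
    abel

end SmUnbLib

end
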